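import Cfsg.Agent.Spor.G1365.L.D0

set_option autoImplicit false
set_option maxRecDepth 100000000
set_option Elab.async false

namespace Cfsg.Agent.Spor.G1365.L

theorem uok8 : Net.okb 11 un8 = true := by decide +kernel

theorem rel3 : U.rel 11 [17, 3, 11, 1, 3, 1, 3, 1, 3, 1, 3, 1, 11, 3] 0 11 = true := by decide +kernel

theorem rel4 : U.rel 11 [18, 1, 17, 1] 0 11 = true := by decide +kernel

theorem rel5 : U.rel 11 [18, 5, 17, 5] 0 11 = true := by decide +kernel

theorem rel6 : U.rel 11 [18, 7, 17, 7] 0 11 = true := by decide +kernel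

theorem rel7 : U.rel 11 [18, 9, 17, 9] 0 11 = true := by decide +kernel

theorem rel8 : U.rel 11 [18, 11, 17, 11] 0 11 = true := by decide +kernel

theorem rel9 : U.rel 11 [18, 1, 14, 1, 13] 0 11 = true := by decide +kernel

theorem rel10 : U.rel 11 [1, 14, 17, 13] 0 11 = true := by decide +kernel

theorem rel11 : U.rel 11 [18, 16, 1, 15] 0 11 = true := by decide +kernel

theorem rel12 : U.rel 11 [18, 1, 16, 17, 15] 0 11 = true := by decide +kernel

theorem uok9 : Net.okb 11 un9 = true := by decide +kernel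

theorem rel13 : U.rel 11 [19, 5, 3, 7, 1, 1, 3] 0 11 = true := by decide +kernel

theorem uok10 : Net.okb 11 un10 = true := by decide +kernel

theorem rel14 : U.rel 11 [21, 9, 3, 5, 9, 5, 7, 3, 7, 5, 9, 11, 5, 3, 7, 1, 11, 5, 11, 9, 1, 11, 5, 3, 1, 11, 1, 11, 5, 7, 11, 1, 9, 3, 5, 1, 7, 3, 9, 1, 5, 5, 7, 5, 9, 7, 5, 11, 3] 0 11 = true := by decide +kernel

theorem gr16 : sub M15 (U.growI W1 [1, 2, 3, 4, 5, 2, 1, 0, 1, 2, 3, 4, 5, 2, 1, 0, 1, 2, 3, 4, 5, 2, 1, 0, 1, 2] (Nat.shiftLeft 1 0)) = true := by decide +kernel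

theorem cl18 : band (U.closedW W1 M15) (sub (Nat.shiftLeft 1 0) M15) = true := by decide +kernel

theorem sz19 : sizeOk 11 M15 1365 = true := by decide +kernel

theorem fx22 : U.closedW W21 (Nat.shiftLeft 1 0) = true := by decide +kernel

theorem uok11 : Net.okb 11 un11 = true := by decide +kernel

theorem rel23 : U.rel 11 [23, 19, 19, 19, 21, 19, 21, 21, 19, 19, 21, 19, 19, 21, 19, 21, 21, 21, 21, 19, 21, 19, 21, 21, 19, 21, 19] 0 11 = true := by decide +kernel

theorem uok12 : Net.okb 11 un12 = true := by decide +kernel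

theorem rel24 : U.rel 11 [25, 21, 21, 19, 21, 19, 21, 21, 19, 21, 19, 21, 19, 21, 19, 19, 21, 19, 21, 21, 19, 19, 21, 19, 19, 21] 0 11 = true := by decide +kernel

theorem gr26 : sub M25 (U.growI W21 [0, 1, 1, 0, 0, 1, 1, 0, 0, 1, 1, 0, 0, 1, 1, 0, 0, 1, 1] (Nat.shiftLeft 1 1)) = true := by decide +kernel

theorem cl28 : band (U.closedW W21 M25) (sub (Nat.shiftLeft 1 1) M25) = true := by decide +kernel

theorem sz29 : sizeOk 11 M25 1024 = true := by decide +kernel

theorem fx32 : U.closedW W31 (Nat.shiftLeft 1 1) = true := by decide +kernel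

theorem gr34 : sub M33 (U.growI W31 [0, 1, 1, 0, 0, 1, 1, 0, 0, 1, 1, 0, 0, 1, 1, 0, 0, 1] (Nat.shiftLeft 1 137)) = true := by decide +kernel

theorem cl36 : band (U.closedW W31 M33) (sub (Nat.shiftLeft 1 137) M33) = true := by decide +kernel

theorem sz37 : sizeOk 11 M33 180 = true := by decide +kernel

end Cfsg.Agent.Spor.G1365.L
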