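import Cfsg.Agent.Spor.Prim
import Cfsg.Agent.Spor.G1365.Main
import Cfsg.Agent.Spor.G1365.L.C0
import Cfsg.Agent.Spor.TT2

set_option autoImplicit false
set_option maxRecDepth 100000000
set_option Elab.async false

namespace Cfsg.Agent.Spor.G1365.L

theorem hU : U.Ok 11 := U.ok_of 11 (show AllP (fun n => Net.okb 11 n = true) [n0, n1, n2, n3, n4, n5, n6, n7, un8, un9, un10, un11, un12] from AllP.cons ok0 (AllP.cons ok1 (AllP.cons ok2 (AllP.cons ok3 (AllP.cons ok4 (AllP.cons ok5 (AllP.cons ok6 (AllP.cons ok7 (AllP.cons uok8 (AllP.cons uok9 (AllP.cons uok10 (AllP.cons uok11 (AllP.cons uok12 (AllP.nil))))))))))))))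

theorem hfP : ∀ j < 6, U.fP [1, 3, 5, 7, 9, 11] j = fP j := by
  intro j hj
  interval_cases j <;> rfl
theorem eG : gsub 6 fP = U.lsub W1 := (gsub_congr hfP).symm.trans (lsub_eq_gsub U [1, 3, 5, 7, 9, 11])
theorem upz1 : ev (atm 6 fP) [0] = U.τ 1 := pz1
theorem upz3 : ev (atm 6 fP) [2] = U.τ 3 := pz2
theorem upz5 : ev (atm 6 fP) [4] = U.τ 5 := pz3
theorem upz7 : ev (atm 6 fP) [6] = U.τ 7 := pz4
theorem upz9 : ev (atm 6 fP) [8] = U.τ 9 := pz5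
theorem upz11 : ev (atm 6 fP) [10] = U.τ 11 := pz6
theorem upz13 : ev (atm 6 fP) [2, 0, 2, 10, 0, 2] = U.τ 13 := pz7
theorem upz15 : ev (atm 6 fP) [2, 4, 6, 10, 2, 4, 6, 2, 0, 2, 4, 0, 2] = U.τ 15 := pz9
theorem eH : wsub 6 fP BW = U.lsub W2 :=
  lsub_eq_of_all₂ (show List.Forall₂ _ [[0], [4], [6], [8], [10], [2, 0, 2, 10, 0, 2], [2, 4, 6, 10, 2, 4, 6, 2, 0, 2, 4, 0, 2]] [[1], [5], [7], [9], [11], [13], [15]] from List.Forall₂.cons (upz1.trans (one_mul _).symm) (List.Forall₂.cons (upz5.trans (one_mul _).symm) (List.Forall₂.cons (upz7.trans (one_mul _).symm) (List.Forall₂.cons (upz9.trans (one_mul _).symm) (List.Forall₂.cons (upz11.trans (one_mul _).symm) (List.Forall₂.cons (upz13.trans (one_mul _).symm) (List.Forall₂.cons (upz15.trans (one_mul _).symm) (List.Forall₂.nil))))))))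
theorem vpz1 : PZ U (atm 6 fP) EXU 1 := pz1
theorem vpz2 : PZ U (atm 6 fP) EXU 2 := PZ.of_inv hiv vpz1 (by decide +kernel)
theorem vpz3 : PZ U (atm 6 fP) EXU 3 := pz2
theorem vpz4 : PZ U (atm 6 fP) EXU 4 := PZ.of_inv hiv vpz3 (by decide +kernel)
theorem vpz5 : PZ U (atm 6 fP) EXU 5 := pz3
theorem vpz6 : PZ U (atm 6 fP) EXU 6 := PZ.of_inv hiv vpz5 (by decide +kernel)
theorem vpz7 : PZ U (atm 6 fP) EXU 7 := pz4
theorem vpz8 : PZ U (atm 6 fP) EXU 8 := PZ.of_inv hiv vpz7 (by decide +kernel)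
theorem vpz9 : PZ U (atm 6 fP) EXU 9 := pz5
theorem vpz10 : PZ U (atm 6 fP) EXU 10 := PZ.of_inv hiv vpz9 (by decide +kernel)
theorem vpz11 : PZ U (atm 6 fP) EXU 11 := pz6
theorem vpz12 : PZ U (atm 6 fP) EXU 12 := PZ.of_inv hiv vpz11 (by decide +kernel)
theorem vpz13 : PZ U (atm 6 fP) EXU 13 := pz7
theorem vpz14 : PZ U (atm 6 fP) EXU 14 := PZ.of_inv hiv vpz13 (by decide +kernel)
theorem vpz15 : PZ U (atm 6 fP) EXU 15 := pz9
theorem vpz16 : PZ U (atm 6 fP) EXU 16 := PZ.of_inv hiv vpz15 (by decide +kernel)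
theorem vpz17 : PZ U (atm 6 fP) EXU 17 := PZ.of_def hiv (d := [3, 11, 1, 3, 1, 3, 1, 3, 1, 3, 1, 11, 3]) (AllP.cons vpz3 (AllP.cons vpz11 (AllP.cons vpz1 (AllP.cons vpz3 (AllP.cons vpz1 (AllP.cons vpz3 (AllP.cons vpz1 (AllP.cons vpz3 (AllP.cons vpz1 (AllP.cons vpz3 (AllP.cons vpz1 (AllP.cons vpz11 (AllP.cons vpz3 (AllP.nil)))))))))))))) (hU.one rel3) (by decide +kernel)
theorem vpz18 : PZ U (atm 6 fP) EXU 18 := PZ.of_inv hiv vpz17 (by decide +kernel)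
theorem hPZU : AllP (PZ U (atm 6 fP) EXU) LU :=
  show AllP (PZ U (atm 6 fP) EXU) [1, 2, 3, 4, 5, 6, 7, 8, 9, 10, 11, 12, 13, 14, 15, 16, 17, 18] from AllP.cons vpz1 (AllP.cons vpz2 (AllP.cons vpz3 (AllP.cons vpz4 (AllP.cons vpz5 (AllP.cons vpz6 (AllP.cons vpz7 (AllP.cons vpz8 (AllP.cons vpz9 (AllP.cons vpz10 (AllP.cons vpz11 (AllP.cons vpz12 (AllP.cons vpz13 (AllP.cons vpz14 (AllP.cons vpz15 (AllP.cons vpz16 (AllP.cons vpz17 (AllP.cons vpz18 (AllP.nil))))))))))))))))))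
theorem hXN : ∀ l ∈ XN, ev (atm 6 fP) l = 1 :=
  relAll_sound hiv (W := [[18, 1, 17, 1], [18, 5, 17, 5], [18, 7, 17, 7], [18, 9, 17, 9], [18, 11, 17, 11], [18, 1, 14, 1, 13], [1, 14, 17, 13], [18, 16, 1, 15], [18, 1, 16, 17, 15]]) (rules := [⟨[18, 1, 17, 1], [], 0, true⟩, ⟨[18, 5, 17, 5], [], 1, true⟩, ⟨[18, 7, 17, 7], [], 2, true⟩, ⟨[18, 9, 17, 9], [], 3, true⟩, ⟨[18, 11, 17, 11], [], 4, true⟩, ⟨[18, 1, 14, 1, 13], [], 5, true⟩, ⟨[1, 14, 17, 13], [], 6, true⟩, ⟨[18, 16, 1, 15], [], 7, true⟩, ⟨[18, 1, 16, 17, 15], [], 8, true⟩]) hPZU (AllP.cons (hU.one rel4) (AllP.cons (hU.one rel5) (AllP.cons (hU.one rel6) (AllP.cons (hU.one rel7) (AllP.cons (hU.one rel8) (AllP.cons (hU.one rel9) (AllP.cons (hU.one rel10) (AllP.cons (hU.one rel11) (AllP.cons (hU.one rel12) (AllP.nil)))))))))) (by decide +kernel)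
theorem reach17 : Reach (U.lsub W1) 0 M15 := (Reach.grow hU (Reach.base _ 0) gr16)
theorem orb20 : (orbS (U.lsub W1) 0).ncard = 1365 := reach17.ncard hU cl18 sz19
theorem orb20e : orbS (U.lsub W1) 0 = {c | Nat.testBit M15 c = true} := reach17.orb hU cl18
theorem reach27 : Reach (U.lsub W21) 1 M25 := (Reach.grow hU (Reach.base _ 1) gr26)
theorem orb30 : (orbS (U.lsub W21) 1).ncard = 1024 := reach27.ncard hU cl28 sz29
theorem orb30e : orbS (U.lsub W21) 1 = {c | Nat.testBit M25 c = true} := reach27.orb hU cl28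
theorem reach35 : Reach (U.lsub W31) 137 M33 := (Reach.grow hU (Reach.base _ 137) gr34)
theorem orb38 : (orbS (U.lsub W31) 137).ncard = 180 := reach35.ncard hU cl36 sz37
theorem orb38e : orbS (U.lsub W31) 137 = {c | Nat.testBit M33 c = true} := reach35.orb hU cl36
theorem lb39 : 180 ∣ Nat.card (U.lsub W31) := dvd_card_orb orb38
theorem lb40 : 184320 ∣ Nat.card (U.lsub W21) :=
  dvd_card_step (s := 1024) (M := 180) (B := U.lsub W31) (Tab.lsub_le_all (AllP.cons (mem_of_rel (hU.one rel23) (U.mem_letters (by decide))) (AllP.cons (mem_of_rel (hU.one rel24) (U.mem_letters (by decide))) (AllP.nil)))) (hU.fixes fx32) orb30 lb39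
theorem lb : 251596800 ∣ Nat.card (U.lsub W1) :=
  dvd_card_step (s := 1365) (M := 184320) (B := U.lsub W21) (Tab.lsub_le_all (AllP.cons (mem_of_rel (hU.one rel13) (U.mem_letters (by decide))) (AllP.cons (mem_of_rel (hU.one rel14) (U.mem_letters (by decide))) (AllP.nil)))) (hU.fixes fx22) orb20 lb40

end Cfsg.Agent.Spor.G1365.L
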